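import Cfsg.Agent.Lib.DicksonFull.Orbit
import Mathlib.LinearAlgebra.Eigenspace.Triangularizable

/-!
# Points with large stabilisers in finite linear groups of dimension two and order prime to the characteristic
-/

set_option autoImplicit false

namespace Cfsg.Agent.Lib.LA5.Torus.Count

open MulAction Finset Cfsg.Agent.Lib.DicksonFull
open scoped LinearAlgebra.Projectivization

section Orbits

variable {G Ω : Type*} [Group G] [Finite G] [MulAction G Ω] [Finite Ω]

/-- If every nonidentity element fixes two points, at most two points have a stabiliser of order at least six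
and at most twelve one of order at least four. -/
theorem card_large_stabilizer (h2 : ∀ g : G, g ≠ 1 → Nat.card (fixedBy Ω g) = 2) {k : ℕ} (hk : 4 ≤ k) :
    Nat.card {ω : Ω // k ≤ Nat.card (stabilizer G ω)} ≤ 12 ∧
      (6 ≤ k → Nat.card {ω : Ω // k ≤ Nat.card (stabilizer G ω)} ≤ 2) := by
  classical
  haveI : Fintype G := Fintype.ofFinite G
  haveI : Fintype (Quotient (orbitRel G Ω)) := Fintype.ofFinite _
  set B := {ω : Ω | k ≤ Nat.card (stabilizer G ω)} with hB
  show Nat.card B ≤ 12 ∧ (6 ≤ k → Nat.card B ≤ 2)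
  set N := Nat.card G with hN
  set f : Quotient (orbitRel G Ω) → ℕ := fun c => Nat.card (orbit G c.out) with hf
  set S := univ.filter fun c => f c ≠ N with hS
  set S' := univ.filter fun c => k * f c ≤ N with hS'
  have hN0 : 0 < N := Nat.card_pos
  have hpos : ∀ c, 0 < f c := fun c => by
    haveI : Nonempty (orbit G c.out) := ⟨⟨c.out, mem_orbit_self _⟩⟩
    exact Nat.card_pos
  have hsub : S' ⊆ S := by
    intro c hc
    rw [hS, mem_filter]
    refine ⟨mem_univ _, fun h => ?_⟩
    have h1 := (mem_filter.1 hc).2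
    rw [h] at h1
    have := Nat.mul_le_mul_right N hk
    omega
  have hcover : Nat.card B ≤ ∑ c ∈ S', f c := by
    have hsubset : B ⊆ ⋃ c ∈ S', orbit G (c.out : Ω) := by
      intro ω hω
      set c : Quotient (orbitRel G Ω) := Quotient.mk _ ω
      have hmem : ω ∈ orbit G c.out := orbitRel_apply.1 (Quotient.exact (Quotient.out_eq c).symm)
      refine Set.mem_iUnion₂.2 ⟨c, mem_filter.2 ⟨mem_univ _, ?_⟩, hmem⟩
      have h1 := card_orbit_mul (G := G) ω
      rw [orbit_eq_iff.2 hmem] at h1
      calc k * f c ≤ Nat.card (stabilizer G ω) * f c := Nat.mul_le_mul_right _ hω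
        _ = N := by rw [mul_comm]; exact h1
    rw [Nat.card_coe_set_eq]
    refine (Set.ncard_le_ncard hsubset (Set.toFinite _)).trans ?_
    refine (Finset.set_ncard_biUnion_le _ _).trans (le_of_eq (Finset.sum_congr rfl fun c _ => ?_))
    rw [← Nat.card_coe_set_eq]
  have hBurn := burnside' G Ω
  rw [Finset.sum_congr rfl (fun g hg => h2 g (Finset.mem_erase.mp hg).1), Finset.sum_const,
    Finset.card_erase_of_mem (mem_univ _), Finset.card_univ, ← Nat.card_eq_fintype_card, smul_eq_mul] at hBurn
  have hB' : (N - 1) * 2 = ∑ c ∈ S, (N - f c) := by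
    rw [hBurn]
    refine (Finset.sum_subset (Finset.subset_univ _) fun c _ hc => ?_).symm
    simp only [hS, mem_filter, mem_univ, true_and, not_not] at hc
    show N - f c = 0
    rw [hc, Nat.sub_self]
  have hhalf : ∀ c ∈ S, 2 * f c ≤ N := fun c hc => two_mul_orbit_le (Finset.mem_filter.mp hc).2
  have hdvd : ∀ c, f c ∣ N := fun c => Dvd.intro _ (card_orbit_mul c.out)
  have hbound : S.card * ((N + 1) / 2) ≤ ∑ c ∈ S, (N - f c) := by
    rw [← smul_eq_mul, ← Finset.sum_const]
    refine Finset.sum_le_sum fun c hc => ?_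
    have := hhalf c hc
    omega
  have hcard : S.card ≤ 3 := by
    by_contra h
    have := Nat.mul_le_mul_right ((N + 1) / 2) (show 4 ≤ S.card by omega)
    omega
  rcases S'.eq_empty_or_nonempty with hempty | ⟨c₀, hc₀⟩
  · rw [hempty, Finset.sum_empty] at hcover
    exact ⟨by omega, fun _ => by omega⟩
  have hc₀S := hsub hc₀
  have hkc : k * f c₀ ≤ N := (mem_filter.1 hc₀).2
  have h4c : 4 * f c₀ ≤ N := (Nat.mul_le_mul_right _ hk).trans hkc
  have herase : S.card = (S.erase c₀).card + 1 := by
    rw [Finset.card_erase_of_mem hc₀S]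
    have := Finset.card_pos.2 ⟨c₀, hc₀S⟩
    omega
  rw [← Finset.add_sum_erase _ _ hc₀S] at hB'
  rcases (show (S.erase c₀).card = 0 ∨ (S.erase c₀).card = 1 ∨ (S.erase c₀).card = 2 by omega) with h | h | h
  · rw [Finset.card_eq_zero.1 h, Finset.sum_empty] at hB'
    have := hpos c₀
    omega
  · obtain ⟨a, ha⟩ := Finset.card_eq_one.1 h
    rw [ha, Finset.sum_singleton] at hB'
    have haS : a ∈ S := Finset.mem_of_mem_erase (ha ▸ Finset.mem_singleton_self a)
    have := hhalf a haS
    have hle : ∑ c ∈ S', f c ≤ 2 := by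
      refine (Finset.sum_le_sum_of_subset hsub).trans ?_
      rw [← Finset.add_sum_erase _ _ hc₀S, ha, Finset.sum_singleton]
      have := hpos c₀
      have := hpos a
      omega
    exact ⟨by omega, fun _ => by omega⟩
  · obtain ⟨a, b, hab, ha⟩ := Finset.card_eq_two.1 h
    rw [ha, Finset.sum_pair hab] at hB'
    have haS : a ∈ S := Finset.mem_of_mem_erase (s := S) (a := c₀) (ha ▸ by simp)
    have hbS : b ∈ S := Finset.mem_of_mem_erase (s := S) (a := c₀) (ha ▸ by simp)
    have h2a := hhalf a haS
    have h2b := hhalf b hbS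
    have hsum : f c₀ + f a + f b = N + 2 := by omega
    -- no other orbit has a large stabiliser
    have hone : S' ⊆ {c₀} := by
      intro c hc
      rw [Finset.mem_singleton]
      by_contra hne
      have hc' : c ∈ ({a, b} : Finset _) := ha ▸ Finset.mem_erase.2 ⟨hne, hsub hc⟩
      have h4 : 4 * f c ≤ N := (Nat.mul_le_mul_right _ hk).trans (mem_filter.1 hc).2
      simp only [Finset.mem_insert, Finset.mem_singleton] at hc'
      rcases hc' with rfl | rfl <;> omega
    have hle : ∑ c ∈ S', f c ≤ f c₀ :=
      (Finset.sum_le_sum_of_subset hone).trans_eq (Finset.sum_singleton _ _)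
    obtain ⟨x, hx⟩ := hdvd a
    obtain ⟨y, hy⟩ := hdvd b
    obtain ⟨z, hz⟩ := hdvd c₀
    have hx' : 2 * f a = N ∨ 3 * f a ≤ N := by
      rcases Nat.lt_or_ge x 3 with hx3 | hx3
      · interval_cases x <;> omega
      · exact Or.inr (by rw [hx]; rw [mul_comm 3]; exact Nat.mul_le_mul_left _ hx3)
    have hy' : 2 * f b = N ∨ 3 * f b ≤ N := by
      rcases Nat.lt_or_ge y 3 with hy3 | hy3
      · interval_cases y <;> omega
      · exact Or.inr (by rw [hy]; rw [mul_comm 3]; exact Nat.mul_le_mul_left _ hy3)
    refine ⟨?_, fun hk6 => ?_⟩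
    · have key : ∀ u v : ℕ, u + v + f c₀ = N + 2 → 2 * u = N → 3 * v ≤ N → ∀ w, N = v * w → f c₀ ≤ 12 := by
        intro u v huv hu hv w hw
        have hw3 : w = 3 := by
          rcases Nat.lt_or_ge w 4 with hw4 | hw4
          · interval_cases w <;> omega
          · have := Nat.mul_le_mul_left v hw4
            omega
        subst hw3
        have hz5 : z ≤ 5 := by
          by_contra hz6
          have := Nat.mul_le_mul_left (f c₀) (show 6 ≤ z by omega)
          omega
        interval_cases z <;> omega
      rcases hx' with hx' | hx' <;> rcases hy' with hy' | hy'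
      · omega
      · have := key (f a) (f b) (by omega) hx' hy' y hy
        omega
      · have := key (f b) (f a) (by omega) hy' hx' x hx
        omega
      · omega
    · have h6 : 6 * f c₀ ≤ N := (Nat.mul_le_mul_right _ hk6).trans hkc
      omega

end Orbits

section Fixed

variable {K V : Type*} [Field K] [IsAlgClosed K] [AddCommGroup V] [Module K V] [FiniteDimensional K V]

/-- A non-scalar automorphism of finite order prime to the characteristic of a plane fixes exactly two lines. -/
theorem card_fixed_eq_two (hV : Module.finrank K V = 2) (g : V ≃ₗ[K] V) {n : ℕ} (hn : (n : K) ≠ 0)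
    (hg : g ^ n = 1) (hns : ¬ ∃ c : K, ∀ v : V, g v = c • v) :
    Nat.card (fixedBy (ℙ K V) g) = 2 := by
  haveI : Nontrivial V := Module.nontrivial_of_finrank_eq_succ hV
  obtain ⟨μ, hμ⟩ := Module.End.exists_eigenvalue (g : V →ₗ[K] V)
  obtain ⟨v, hv⟩ := hμ.exists_hasEigenvector
  have hgv : g v = μ • v := hv.apply_eq_smul
  have hv0 : v ≠ 0 := hv.2
  obtain ⟨w, hw⟩ : ∃ w : V, w ∉ Submodule.span K {v} := by
    by_contra hall
    push Not at hall
    have h1 : Submodule.span K ({v} : Set V) = ⊤ := Submodule.eq_top_iff'.2 hall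
    have h2 := finrank_span_singleton (K := K) hv0
    rw [h1, finrank_top, hV] at h2
    omega
  have hli : LinearIndependent K ![v, w] := by
    rw [LinearIndependent.pair_iff' hv0]
    exact fun c hc => hw (Submodule.mem_span_singleton.2 ⟨c, hc⟩)
  have hspan : ∀ u : V, ∃ a b : K, a • v + b • w = u := by
    intro u
    have hu : u ∈ Submodule.span K (Set.range ![v, w]) :=
      (hli.span_eq_top_of_card_eq_finrank' (by simp [hV])) ▸ Submodule.mem_top
    rw [Matrix.range_cons_cons_empty, Submodule.mem_span_pair] at hu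
    exact hu
  obtain ⟨c, ν, hgw⟩ := hspan (g w)
  have hν : ν ≠ μ := by
    rintro rfl
    refine hns ⟨ν, fun u => ?_⟩
    have hμ0 : ν ≠ 0 := by
      rintro rfl
      rw [zero_smul] at hgv
      exact hv0 (g.map_eq_zero_iff.1 hgv)
    have hpow : ∀ m : ℕ, (g ^ (m + 1)) w = (((m + 1 : ℕ) : K) * ν ^ m * c) • v + ν ^ (m + 1) • w := by
      intro m
      induction m with
      | zero => simp [hgw]
      | succ m ih =>
        rw [pow_succ', LinearEquiv.mul_apply, ih, map_add, map_smul, map_smul, hgv, ← hgw, smul_add,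
          smul_smul, smul_smul, smul_smul, ← add_assoc, ← add_smul, ← pow_succ]
        congr 2
        push_cast
        ring
    obtain ⟨m, rfl⟩ : ∃ m, n = m + 1 := ⟨n - 1, by
      have : n ≠ 0 := fun h => hn (by rw [h, Nat.cast_zero])
      omega⟩
    have h1 := hpow m
    rw [hg, LinearEquiv.coe_one, id_eq] at h1
    have h2 : ((((m + 1 : ℕ) : K) * ν ^ m * c) • v + (ν ^ (m + 1) - 1) • w : V) = 0 := by
      rw [sub_smul, one_smul, ← add_sub_assoc, ← h1, sub_self]
    have hc0 := (LinearIndependent.pair_iff.1 hli _ _ h2).1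
    simp only [mul_eq_zero, hn, pow_eq_zero_iff', hμ0, false_and, or_false, false_or] at hc0
    obtain ⟨a, b, rfl⟩ := hspan u
    rw [map_add, map_smul, map_smul, hgv, ← hgw, hc0, zero_smul, zero_add, smul_add, smul_comm a, smul_comm b]
  set w' := w + (c / (ν - μ)) • v with hw'
  have hsub : ν - μ ≠ 0 := sub_ne_zero.2 hν
  have hgw' : g w' = ν • w' := by
    rw [hw', map_add, map_smul, hgv, ← hgw, smul_add, smul_smul, smul_smul,
      add_right_comm, add_comm (ν • w), ← add_smul]
    congr 2
    field_simp
    ring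
  have hw'0 : w' ∉ Submodule.span K {v} := fun h => hw (by
    have := Submodule.sub_mem _ h (Submodule.smul_mem _ (c / (ν - μ)) (Submodule.mem_span_singleton_self v))
    rwa [hw', add_sub_cancel_right] at this)
  have hw'ne : w' ≠ 0 := fun h => hw'0 (by rw [h]; exact Submodule.zero_mem _)
  have hfix : fixedBy (ℙ K V) g = {Projectivization.mk K v hv0, Projectivization.mk K w' hw'ne} := by
    ext x
    induction x using Projectivization.ind with | h u hu => ?_
    simp only [mem_fixedBy, Set.mem_insert_iff, Set.mem_singleton_iff, Projectivization.smul_mk,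
      Projectivization.mk_eq_mk_iff']
    constructor
    · rintro ⟨κ, hκ⟩
      obtain ⟨a, b, rfl⟩ := hspan u
      have hw2 : w = w' - (c / (ν - μ)) • v := by rw [hw', add_sub_cancel_right]
      set a' := a - b * (c / (ν - μ)) with ha'
      have hu' : a • v + b • w = a' • v + b • w' := by
        rw [hw2, smul_sub, smul_smul, ha', sub_smul]; abel
      rw [hu'] at hκ ⊢
      change κ • (a' • v + b • w') = g (a' • v + b • w') at hκ
      rw [map_add, map_smul, map_smul, hgv, hgw', smul_add, smul_smul, smul_smul, smul_smul, smul_smul] at hκ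
      have hli' : LinearIndependent K ![v, w'] := by
        rw [LinearIndependent.pair_iff' hv0]
        exact fun c' hc => hw'0 (Submodule.mem_span_singleton.2 ⟨c', hc⟩)
      have h3 := LinearIndependent.pair_iff.1 hli' (κ * a' - a' * μ) (κ * b - b * ν) (by
        rw [sub_smul, sub_smul, sub_add_sub_comm, hκ, sub_self])
      by_cases ha0 : a' = 0
      · exact Or.inr ⟨b, by rw [ha0, zero_smul, zero_add]⟩
      · have hb : b = 0 := by
          by_contra hb
          apply hν
          have e1 : κ = μ := mul_right_cancel₀ ha0 (by rw [sub_eq_zero.1 h3.1, mul_comm])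
          have e2 : κ = ν := mul_right_cancel₀ hb (by rw [sub_eq_zero.1 h3.2, mul_comm])
          exact e2.symm.trans e1
        exact Or.inl ⟨a', by rw [hb, zero_smul, add_zero]⟩
    · rintro (⟨a, rfl⟩ | ⟨a, rfl⟩)
      · exact ⟨μ, by show μ • a • v = g (a • v); rw [map_smul, hgv, smul_comm]⟩
      · exact ⟨ν, by show ν • a • w' = g (a • w'); rw [map_smul, hgw', smul_comm]⟩
  rw [Nat.card_coe_set_eq, hfix, Set.ncard_pair]
  intro h
  obtain ⟨a, ha⟩ := (Projectivization.mk_eq_mk_iff' K _ _ _ _).1 h.symm
  exact hw'0 (Submodule.mem_span_singleton.2 ⟨a, ha⟩)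

end Fixed

end Cfsg.Agent.Lib.LA5.Torus.Count
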