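import Cfsg.Agent.Lib.LA5.Torus.Count
import Cfsg.Agent.Lib.LA5.Basic
import Cfsg.Agent.Lib.Extraspecial.Basic
import Mathlib.FieldTheory.IsAlgClosed.AlgebraicClosure
import Mathlib.LinearAlgebra.Matrix.ToLin
import Mathlib.Algebra.Field.ZMod

/-!
# Tori over the lines of an extraspecial Sylow subgroup of order `p ^ 3` and exponent `p`
-/

set_option autoImplicit false

namespace Cfsg.Agent.Lib.LA5.Torus.Extraspecial

open Subgroup Cfsg.Agent.Lib.LA5.Basic
open scoped commutatorElement LinearAlgebra.Projectivization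

variable {G : Type*} [Group G] [Finite G] {p : ℕ} [hp : Fact p.Prime]

omit [Finite G] in
theorem pow_val_natCast {a : G} (ha : a ^ p = 1) (m : ℕ) : a ^ ((m : ZMod p)).val = a ^ m := by
  rw [ZMod.val_natCast, ← pow_eq_pow_mod m ha]

omit [Finite G] in
theorem pow_val_add {a : G} (ha : a ^ p = 1) (i j : ZMod p) : a ^ (i + j).val = a ^ i.val * a ^ j.val := by
  rw [← pow_add, ← pow_val_natCast ha (i.val + j.val), Nat.cast_add, ZMod.natCast_zmod_val, ZMod.natCast_zmod_val]

omit [Finite G] in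
theorem pow_val_mul {a : G} (ha : a ^ p = 1) (i j : ZMod p) : a ^ (i * j).val = (a ^ i.val) ^ j.val := by
  rw [← pow_mul, ← pow_val_natCast ha (i.val * j.val), Nat.cast_mul, ZMod.natCast_zmod_val, ZMod.natCast_zmod_val]

/-- `z ^ i * a ^ j`. -/
def pt (z a : G) (i j : ZMod p) : G := z ^ i.val * a ^ j.val

omit [Finite G] in
theorem conj_pt {z a u : G} (hza : Commute z a) (hz : z ^ p = 1) (ha : a ^ p = 1)
    (huz : u * z * u⁻¹ = z) (hua : u * a * u⁻¹ = z * a) (r i j : ZMod p) :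
    u ^ r.val * pt z a i j * (u ^ r.val)⁻¹ = pt z a (i + r * j) j := by
  have hstep : ∀ i' j' : ZMod p, u * pt z a i' j' * u⁻¹ = pt z a (i' + j') j' := by
    intro i' j'
    calc u * pt z a i' j' * u⁻¹ = (u * z * u⁻¹) ^ i'.val * (u * a * u⁻¹) ^ j'.val := by
          rw [pt, conj_pow, conj_pow]; group
      _ = pt z a (i' + j') j' := by rw [huz, hua, hza.mul_pow, pt, pow_val_add hz, mul_assoc]
  have : ∀ n : ℕ, u ^ n * pt z a i j * (u ^ n)⁻¹ = pt z a (i + (n : ZMod p) * j) j := by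
    intro n
    induction n with
    | zero => simp
    | succ n ih =>
      calc u ^ (n + 1) * pt z a i j * (u ^ (n + 1))⁻¹ = u * (u ^ n * pt z a i j * (u ^ n)⁻¹) * u⁻¹ := by
            rw [pow_succ']; group
        _ = pt z a (i + ((n + 1 : ℕ) : ZMod p) * j) j := by
            rw [ih, hstep]; congr 1; push_cast; ring
  rw [this, ZMod.natCast_zmod_val]

omit [Finite G] in
theorem pt_swap {z a : G} (hza : Commute z a) (i j : ZMod p) : pt a z i j = pt z a j i :=
  ((hza.pow_pow j.val i.val).eq).symm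

omit [Finite G] in
/-- The torus made of the two transvection groups. -/
theorem torus {z a s t₀ : G} (hza : Commute z a) (hz : z ^ p = 1) (ha : a ^ p = 1)
    (hsz : s * z * s⁻¹ = z) (hsa : s * a * s⁻¹ = z * a) (hta : t₀ * a * t₀⁻¹ = a)
    (htz : t₀ * z * t₀⁻¹ = a * z) {t : ZMod p} (ht : t ≠ 0) :
    ∃ n : G, n * z * n⁻¹ = z ^ t.val ∧ n * a * n⁻¹ = a ^ (t⁻¹).val := by
  haveI : Fact (1 < p) := ⟨hp.out.one_lt⟩
  have hS : ∀ r i j : ZMod p, s ^ r.val * pt z a i j * (s ^ r.val)⁻¹ = pt z a (i + r * j) j :=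
    conj_pt hza hz ha hsz hsa
  have hT : ∀ r i j : ZMod p, t₀ ^ r.val * pt z a i j * (t₀ ^ r.val)⁻¹ = pt z a i (j + r * i) := by
    intro r i j
    rw [← pt_swap hza j i, conj_pt hza.symm ha hz hta htz, pt_swap hza]
  set w : ZMod p → G := fun r => s ^ r.val * t₀ ^ (-r⁻¹).val * s ^ r.val with hw
  have hW : ∀ r : ZMod p, r ≠ 0 → ∀ i j, w r * pt z a i j * (w r)⁻¹ = pt z a (r * j) (-(i / r)) := by
    intro r hr i j
    calc w r * pt z a i j * (w r)⁻¹
        = s ^ r.val * (t₀ ^ (-r⁻¹).val * (s ^ r.val * pt z a i j * (s ^ r.val)⁻¹) * (t₀ ^ (-r⁻¹).val)⁻¹)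
            * (s ^ r.val)⁻¹ := by simp only [hw]; group
      _ = pt z a (i + r * j + r * (j + -r⁻¹ * (i + r * j))) (j + -r⁻¹ * (i + r * j)) := by
          rw [hS, hT, hS]
      _ = _ := by
          congr 1
          · field_simp; ring
          · field_simp; ring
  refine ⟨w t * (w (-1)), ?_, ?_⟩
  · have h1 : pt z a (1 : ZMod p) 0 = z := by simp [pt, ZMod.val_one, ZMod.val_zero]
    calc w t * w (-1) * z * (w t * w (-1))⁻¹ = w t * (w (-1) * pt z a 1 0 * (w (-1))⁻¹) * (w t)⁻¹ := by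
          rw [h1]; group
      _ = pt z a t 0 := by
          rw [hW _ (neg_ne_zero.2 one_ne_zero), hW _ ht]
          congr 1 <;> simp
      _ = z ^ t.val := by simp [pt, ZMod.val_zero]
  · have h1 : pt z a (0 : ZMod p) 1 = a := by simp [pt, ZMod.val_one, ZMod.val_zero]
    calc w t * w (-1) * a * (w t * w (-1))⁻¹ = w t * (w (-1) * pt z a 0 1 * (w (-1))⁻¹) * (w t)⁻¹ := by
          rw [h1]; group
      _ = pt z a 0 t⁻¹ := by
          rw [hW _ (neg_ne_zero.2 one_ne_zero), hW _ ht]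
          congr 1 <;> simp [div_eq_mul_inv]
      _ = a ^ (t⁻¹).val := by simp [pt, ZMod.val_zero]

variable {P : Sylow p G} {z : (P : Subgroup G)}

/-- The centraliser in `P` of a noncentral element. -/
theorem centralizer_eq (h : Lib.Extraspecial.ESData p z) (hcard : Nat.card (P : Subgroup G) = p ^ 3)
    {e : (P : Subgroup G)} (he : e ∉ center (P : Subgroup G)) {f : (P : Subgroup G)} (hf : f * e = e * f) :
    f ∈ zpowers z ⊔ zpowers e := by
  set C := centralizer ({e} : Set (P : Subgroup G)) with hC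
  set E := zpowers z ⊔ zpowers e with hE
  have hEC : E ≤ C := sup_le (zpowers_le.2 (mem_centralizer_singleton_iff.2
    (Lib.Extraspecial.commute_z h e).symm)) (zpowers_le.2 (mem_centralizer_singleton_iff.2 rfl))
  have hCne : C ≠ ⊤ := fun h1 => he (mem_center_iff.2 fun g =>
    mem_centralizer_singleton_iff.1 (h1 ▸ mem_top g : g ∈ C))
  obtain ⟨a, ha3, ha⟩ := (Nat.dvd_prime_pow hp.out).1 (hcard ▸ card_subgroup_dvd_card C)
  have ha2 : a ≤ 2 := by
    by_contra h3
    exact hCne ((card_eq_iff_eq_top C).1 (by rw [ha, hcard, show a = 3 by omega]))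
  obtain ⟨b, -, hb⟩ := (Nat.dvd_prime_pow hp.out).1 (hcard ▸ card_subgroup_dvd_card E)
  have hb2 : 2 ≤ b := by
    by_contra h1
    have hzc : Nat.card (zpowers z) = p := by rw [Nat.card_zpowers, orderOf_eq_prime h.z_pow h.z_ne]
    have hzE : zpowers z = E := by
      refine eq_of_le_of_card_ge le_sup_left ?_
      rw [hb, hzc]
      exact (Nat.pow_le_pow_right hp.out.pos (by omega : b ≤ 1)).trans_eq (pow_one p)
    exact he ((h.mem_center e).2 (hzE ▸ mem_sup_right (mem_zpowers e)))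
  have hCE : E = C := eq_of_le_of_card_ge hEC (by
    rw [ha, hb]; exact Nat.pow_le_pow_right hp.out.pos (by omega))
  exact hCE ▸ mem_centralizer_singleton_iff.2 hf

/-- A torus normalising `P`. -/
theorem exists_torus (h : Lib.Extraspecial.ESData p z) (hexp : ∀ q : (P : Subgroup G), q ^ p = 1)
    {a : (P : Subgroup G)} (ha : a ∉ center (P : Subgroup G)) {t₀ : G}
    (hta : t₀ * (a : G) * t₀⁻¹ = a) (htz : t₀ * (z : G) * t₀⁻¹ = a * z) {t : ZMod p} (ht : t ≠ 0) :
    ∃ n ∈ normalizer ((P : Subgroup G) : Set G), n * (z : G) * n⁻¹ = (z : G) ^ t.val ∧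
      ∃ k : ℤ, n * (a : G) * n⁻¹ = (z : G) ^ k * (a : G) ^ (t⁻¹).val := by
  have hz : (z : G) ^ p = 1 := congrArg Subtype.val h.z_pow
  have hap : (a : G) ^ p = 1 := congrArg Subtype.val (hexp a)
  have hzc : ∀ q : (P : Subgroup G), (q : G) * z = z * q := fun q =>
    congrArg Subtype.val (Lib.Extraspecial.commute_z h q)
  have hza : Commute (z : G) a := (hzc a).symm
  obtain ⟨w, hw⟩ : ∃ w : (P : Subgroup G), ⁅w, a⁆ ≠ 1 := by
    by_contra hall
    push Not at hall
    exact ha (mem_center_iff.2 fun w => commutatorElement_eq_one_iff_mul_comm.1 (hall w))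
  obtain ⟨i, hi⟩ := h.comm_mem w a
  have hord : orderOf z = p := orderOf_eq_prime h.z_pow h.z_ne
  have hi0 : (i : ZMod p) ≠ 0 := fun h0 => hw (by
    rw [← hi]
    exact orderOf_dvd_iff_zpow_eq_one.1 (hord.symm ▸ (ZMod.intCast_zmod_eq_zero_iff_dvd i p).1 h0))
  set k : ℤ := (((i : ZMod p)⁻¹).val : ℤ) with hk
  set s := w ^ k with hs
  have hsa : s * a * s⁻¹ = z * a := by
    rw [← mul_inv_eq_iff_eq_mul]
    show ⁅s, a⁆ = z
    rw [hs, Lib.Extraspecial.comm_zpow_left h, ← hi]
    show (z ^ i) ^ k = z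
    rw [← zpow_mul]
    conv_rhs => rw [← zpow_one z]
    rw [zpow_eq_zpow_iff_modEq, hord, ← ZMod.intCast_eq_intCast_iff]
    push_cast [hk]
    rw [ZMod.natCast_zmod_val, mul_inv_cancel₀ hi0]
  obtain ⟨n, hnz, hna⟩ := torus hza hz hap (s := (s : G)) (t₀ := t₀)
    (by rw [hzc s, mul_inv_cancel_right]) (congrArg Subtype.val hsa) hta htz ht
  have hfix : ∀ c : G, c * (z : G) * c⁻¹ = z → ∀ y ∈ zpowers (z : G), c * y * c⁻¹ = y := by
    rintro c hc _ ⟨k, rfl⟩
    rw [← conj_zpow, hc]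
  let A : Subgroup G :=
    { carrier := {c | c * (z : G) * c⁻¹ = z ∧ c * (a : G) * c⁻¹ * (a : G)⁻¹ ∈ zpowers (z : G)}
      one_mem' := by simp
      mul_mem' := fun {b c} hb hc => by
        refine ⟨?_, ?_⟩
        · calc b * c * (z : G) * (b * c)⁻¹ = b * (c * (z : G) * c⁻¹) * b⁻¹ := by group
            _ = z := by rw [hc.1, hb.1]
        · have h1 : b * c * (a : G) * (b * c)⁻¹ * (a : G)⁻¹ =
              b * (c * (a : G) * c⁻¹ * (a : G)⁻¹) * b⁻¹ * (b * (a : G) * b⁻¹ * (a : G)⁻¹) := by group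
          rw [h1, hfix b hb.1 _ hc.2]
          exact mul_mem hc.2 hb.2
      inv_mem' := fun {b} hb => by
        have h1 : b⁻¹ * (z : G) * b⁻¹⁻¹ = z := by
          conv_lhs => rw [← hb.1]
          group
        refine ⟨h1, ?_⟩
        have h2 : b⁻¹ * (a : G) * b⁻¹⁻¹ * (a : G)⁻¹ = b⁻¹ * (b * (a : G) * b⁻¹ * (a : G)⁻¹)⁻¹ * b⁻¹⁻¹ := by group
        rw [h2, hfix _ h1 _ (inv_mem hb.2)]
        exact inv_mem hb.2 }
  have hPA : (P : Subgroup G) ≤ A := fun q hq => by
    refine ⟨by rw [hzc ⟨q, hq⟩, mul_inv_cancel_right], ?_⟩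
    obtain ⟨m, hm⟩ := h.comm_mem ⟨q, hq⟩ a
    exact ⟨m, by simpa [commutatorElement_def] using congrArg Subtype.val hm⟩
  have hnA : ((n • P : Sylow p G) : Subgroup G) ≤ A := by
    rintro _ ⟨q, hq, rfl⟩
    obtain ⟨hq1, m, hm⟩ := hPA hq
    refine ⟨?_, ?_⟩
    · show n * q * n⁻¹ * (z : G) * (n * q * n⁻¹)⁻¹ = z
      have hz' : ∀ u : G, u * (z : G) * u⁻¹ = z → u * (z : G) ^ (t⁻¹).val * u⁻¹ = (z : G) ^ (t⁻¹).val :=
        fun u hu => by rw [← conj_pow, hu]
      have hz1 : n * (z : G) ^ (t⁻¹).val * n⁻¹ = z := by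
        haveI : Fact (1 < p) := ⟨hp.out.one_lt⟩
        rw [← conj_pow, hnz, ← pow_val_mul hz, mul_inv_cancel₀ ht, ZMod.val_one, pow_one]
      have hz2 : n⁻¹ * (z : G) * n = (z : G) ^ (t⁻¹).val := by
        conv_lhs => rw [← hz1]
        group
      calc n * q * n⁻¹ * (z : G) * (n * q * n⁻¹)⁻¹ = n * (q * (n⁻¹ * (z : G) * n) * q⁻¹) * n⁻¹ := by group
        _ = z := by rw [hz2, hz' q hq1, hz1]
    · show n * q * n⁻¹ * (a : G) * (n * q * n⁻¹)⁻¹ * (a : G)⁻¹ ∈ zpowers (z : G)
      have ha1 : n * (a : G) ^ t.val * n⁻¹ = a := by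
        haveI : Fact (1 < p) := ⟨hp.out.one_lt⟩
        rw [← conj_pow, hna, ← pow_val_mul hap, inv_mul_cancel₀ ht, ZMod.val_one, pow_one]
      have ha2 : n⁻¹ * (a : G) * n = (a : G) ^ t.val := by
        conv_lhs => rw [← ha1]
        group
      have hqa : q * (a : G) * q⁻¹ = (z : G) ^ m * a := by
        rw [show (z : G) ^ m = q * (a : G) * q⁻¹ * (a : G)⁻¹ from hm]; group
      have e : n * q * n⁻¹ * (a : G) * (n * q * n⁻¹)⁻¹ * (a : G)⁻¹
          = n * ((z : G) ^ m) ^ t.val * n⁻¹ := by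
        calc n * q * n⁻¹ * (a : G) * (n * q * n⁻¹)⁻¹ * (a : G)⁻¹
            = n * (q * (n⁻¹ * (a : G) * n) * q⁻¹) * n⁻¹ * (a : G)⁻¹ := by group
          _ = n * (((z : G) ^ m * a) ^ t.val) * n⁻¹ * (a : G)⁻¹ := by rw [ha2, ← conj_pow, hqa]
          _ = n * ((z : G) ^ m) ^ t.val * n⁻¹ * (n * (a : G) ^ t.val * n⁻¹) * (a : G)⁻¹ := by
              rw [(hza.zpow_left m).mul_pow]; group
          _ = _ := by rw [ha1, mul_inv_cancel_right]
      rw [e, ← conj_pow, ← conj_zpow, hnz]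
      exact pow_mem (zpow_mem (pow_mem (mem_zpowers _) _) _) _
  obtain ⟨c, hc⟩ := MulAction.exists_smul_eq A ((n • P : Sylow p G).subtype hnA) (P.subtype hPA)
  refine ⟨(c : G) * n, ?_, ?_, ?_⟩
  · apply mem_normalizer_iff_conj_eq.2
    refine conj_eq_self_of_le ?_
    rintro _ ⟨q, hq, rfl⟩
    have h1 : (⟨n * q * n⁻¹, hnA ⟨q, hq, rfl⟩⟩ : A) ∈ ((n • P : Sylow p G).subtype hnA : Subgroup A) :=
      ⟨q, hq, rfl⟩
    have h2 : c * ⟨n * q * n⁻¹, hnA ⟨q, hq, rfl⟩⟩ * c⁻¹ ∈ (P.subtype hPA : Subgroup A) := by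
      rw [← hc]; exact ⟨_, h1, rfl⟩
    have h3 : (c : G) * (n * q * n⁻¹) * (c : G)⁻¹ ∈ (P : Subgroup G) := h2
    simpa [mul_assoc] using h3
  · calc (c : G) * n * z * ((c : G) * n)⁻¹ = (c : G) * (n * z * n⁻¹) * (c : G)⁻¹ := by group
      _ = (z : G) ^ t.val := by rw [hnz, ← conj_pow, c.2.1]
  · obtain ⟨m, hm⟩ := c.2.2
    refine ⟨m * ((t⁻¹).val : ℤ), ?_⟩
    calc (c : G) * n * a * ((c : G) * n)⁻¹ = (c : G) * (n * a * n⁻¹) * (c : G)⁻¹ := by group
      _ = ((c : G) * a * (c : G)⁻¹ * (a : G)⁻¹ * a) ^ (t⁻¹).val := by rw [hna, ← conj_pow]; group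
      _ = ((z : G) ^ m * a) ^ (t⁻¹).val := by rw [← hm]
      _ = _ := by rw [(hza.zpow_left m).mul_pow, zpow_mul, zpow_natCast]

/-- At most two lines carry a torus of order at least six, and at most twelve one of order at least four. -/
theorem count_lines (h : Lib.Extraspecial.ESData p z) (hcard : Nat.card (P : Subgroup G) = p ^ 3)
    (hexp : ∀ q : (P : Subgroup G), q ^ p = 1) {ι : Type*} [Finite ι] (a : ι → (P : Subgroup G))
    (ha : ∀ i, a i ∉ center (P : Subgroup G))
    (hind : ∀ i i', i ≠ i' → a i ∉ zpowers z ⊔ zpowers (a i'))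
    (ht₀ : ∀ i, ∃ t₀ : G, t₀ * (a i : G) * t₀⁻¹ = a i ∧ t₀ * (z : G) * t₀⁻¹ = a i * z)
    {t : ZMod p} (ht : t ≠ 0) {k : ℕ} (hk : 4 ≤ k) (hkt : ∀ j : ℕ, 0 < j → j < k → t ^ (3 * j) ≠ 1) :
    Nat.card ι ≤ 12 ∧ (6 ≤ k → Nat.card ι ≤ 2) := by
  classical
  haveI : NeZero p := ⟨hp.out.ne_zero⟩
  rcases isEmpty_or_nonempty ι with hι | ⟨⟨i₀⟩⟩
  · rw [Nat.card_of_isEmpty]; exact ⟨by omega, fun _ => by omega⟩
  have hord : orderOf z = p := orderOf_eq_prime h.z_pow h.z_ne
  have hzk : ∀ i j : ℤ, z ^ i = z ^ j ↔ (i : ZMod p) = j := fun i j => by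
    rw [zpow_eq_zpow_iff_modEq, hord, ← ZMod.intCast_eq_intCast_iff]
  obtain ⟨y, hxy⟩ := Lib.Extraspecial.exists_pair h (a := a i₀) (fun h0 => ha i₀ ((h.mem_center _).2 h0))
  set x := a i₀ with hx
  -- coordinates
  choose L hL using fun (q r : (P : Subgroup G)) => h.comm_mem q r
  have hL' : ∀ q r, ⁅q, r⁆ = z ^ L q r := fun q r => (hL q r).symm
  let χ : ↥(P : Subgroup G) → (Fin 2 → ZMod p) := fun q => ![(L q y : ZMod p), (L x q : ZMod p)]
  have hχmul : ∀ q r, χ (q * r) = χ q + χ r := by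
    intro q r
    have e1 : ((L (q * r) y : ℤ) : ZMod p) = L q y + L r y := by
      rw [← Int.cast_add, ← hzk, zpow_add, ← hL', ← hL', ← hL', Lib.Extraspecial.comm_mul_left h]
    have e2 : ((L x (q * r) : ℤ) : ZMod p) = L x q + L x r := by
      rw [← Int.cast_add, ← hzk, zpow_add, ← hL', ← hL', ← hL', ← commutatorElement_inv (q * r) x,
        Lib.Extraspecial.comm_mul_left h, mul_inv_rev, commutatorElement_inv, commutatorElement_inv]
      exact mem_center_iff.1 ((h.mem_center _).2 (h.comm_mem _ _)) _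
    funext i
    fin_cases i
    · simpa [χ] using e1
    · simpa [χ] using e2
  let χh : Additive ↥(P : Subgroup G) →+ (Fin 2 → ZMod p) :=
    AddMonoidHom.mk' (fun q => χ q.toMul) (fun q r => hχmul _ _)
  have hχpow : ∀ q (n : ℕ), χ (q ^ n) = (n : ZMod p) • χ q := fun q n => by
    have := χh.map_nsmul n (Additive.ofMul q)
    rw [Nat.cast_smul_eq_nsmul]
    exact this
  have hχinv : ∀ q, χ q⁻¹ = -χ q := fun q => χh.map_neg (Additive.ofMul q)
  have hχ0 : ∀ q, χ q = 0 ↔ q ∈ center (P : Subgroup G) := by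
    intro q
    constructor
    · intro hq
      have h1 : ⁅q, y⁆ = 1 := by
        rw [hL', ← zpow_zero z, hzk]; simpa [χ] using congrFun hq 0
      have h2 : ⁅x, q⁆ = 1 := by
        rw [hL', ← zpow_zero z, hzk]; simpa [χ] using congrFun hq 1
      have hq' := centralizer_eq h hcard (ha i₀) (commutatorElement_eq_one_iff_mul_comm.1 h2).symm
      haveI : (zpowers z).Normal := ⟨fun u hu g => by
        rw [mem_center_iff.1 ((h.mem_center u).2 hu) g, mul_inv_cancel_right]; exact hu⟩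
      have hq'' : q ∈ ((zpowers z ⊔ zpowers x : Subgroup (P : Subgroup G)) : Set (P : Subgroup G)) := hq'
      rw [Subgroup.normal_mul] at hq''
      obtain ⟨_, ⟨i, rfl⟩, _, ⟨j, rfl⟩, rfl⟩ := hq''
      have hzc : ⁅z ^ i, y⁆ = 1 :=
        commutatorElement_eq_one_iff_mul_comm.2 (Lib.Extraspecial.commute_zpow h y i).symm
      change ⁅z ^ i * x ^ j, y⁆ = 1 at h1
      show z ^ i * x ^ j ∈ center (P : Subgroup G)
      rw [Lib.Extraspecial.comm_mul_left h, hzc, one_mul, Lib.Extraspecial.comm_zpow_left h, hxy] at h1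
      refine (h.mem_center _).2 ?_
      have hj : x ^ j = 1 := by
        rw [← orderOf_dvd_iff_zpow_eq_one, hord] at h1
        exact orderOf_dvd_iff_zpow_eq_one.1
          ((Int.natCast_dvd_natCast.2 (orderOf_dvd_of_pow_eq_one (hexp x))).trans h1)
      rw [hj, mul_one]
      exact ⟨i, rfl⟩
    · intro hq
      have key : ∀ r : ↥(P : Subgroup G), ⁅q, r⁆ = 1 ∧ ⁅r, q⁆ = 1 := fun r =>
        ⟨commutatorElement_eq_one_iff_mul_comm.2 (mem_center_iff.1 hq r).symm,
          commutatorElement_eq_one_iff_mul_comm.2 (mem_center_iff.1 hq r)⟩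
      have e1 : ((L q y : ℤ) : ZMod p) = 0 := by
        rw [← Int.cast_zero, ← hzk, zpow_zero, ← hL', (key y).1]
      have e2 : ((L x q : ℤ) : ZMod p) = 0 := by
        rw [← Int.cast_zero, ← hzk, zpow_zero, ← hL', (key x).2]
      funext i
      fin_cases i
      · simpa [χ] using e1
      · simpa [χ] using e2
  have hχx : χ x = ![1, 0] := by
    have e1 : ((L x y : ℤ) : ZMod p) = 1 := by rw [← Int.cast_one, ← hzk, zpow_one, ← hL', hxy]
    have e2 : ((L x x : ℤ) : ZMod p) = 0 := by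
      rw [← Int.cast_zero, ← hzk, zpow_zero, ← hL', commutatorElement_self]
    simp [χ, e1, e2]
  have hχy : χ y = ![0, 1] := by
    have e1 : ((L y y : ℤ) : ZMod p) = 0 := by
      rw [← Int.cast_zero, ← hzk, zpow_zero, ← hL', commutatorElement_self]
    have e2 : ((L x y : ℤ) : ZMod p) = 1 := by rw [← Int.cast_one, ← hzk, zpow_one, ← hL', hxy]
    simp [χ, e1, e2]
  let sec : (Fin 2 → ZMod p) → (P : Subgroup G) := fun v => x ^ (v 0).val * y ^ (v 1).val
  have hsec : ∀ v, χ (sec v) = v := by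
    intro v
    rw [hχmul, hχpow, hχpow, hχx, hχy, ZMod.natCast_zmod_val, ZMod.natCast_zmod_val]
    funext i
    fin_cases i <;> simp
  have heq : ∀ q q', χ q = χ q' → q⁻¹ * q' ∈ center (P : Subgroup G) := fun q q' hqq => by
    rw [← hχ0, hχmul, hχinv, hqq, neg_add_cancel]
  -- the action of the normaliser
  set N := normalizer ((P : Subgroup G) : Set G) with hN
  let cj : N → ↥(P : Subgroup G) → (P : Subgroup G) := fun n q =>
    ⟨(n : G) * q * (n : G)⁻¹, (mem_normalizer_iff.1 n.2 q).1 q.2⟩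
  have hcjmul : ∀ n q r, cj n (q * r) = cj n q * cj n r := fun n q r => Subtype.ext (by simp [cj])
  have hcjz : ∀ n q, q ∈ center ↥(P : Subgroup G) → cj n q ∈ center (P : Subgroup G) := by
    intro n q hq
    rw [mem_center_iff]
    intro r
    have h1 : (cj n⁻¹ r) * q = q * cj n⁻¹ r := mem_center_iff.1 hq _
    have h2 := congrArg (cj n) h1
    rw [hcjmul, hcjmul] at h2
    have h3 : cj n (cj n⁻¹ r) = r := Subtype.ext (by simp [cj, mul_assoc])
    rwa [h3] at h2
  have hwd : ∀ n q q', χ q = χ q' → χ (cj n q) = χ (cj n q') := by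
    intro n q q' hqq
    have h1 : χ (cj n (q⁻¹ * q')) = 0 := (hχ0 _).2 (hcjz n _ (heq q q' hqq))
    have h2 : χ (cj n q') = χ (cj n q) + χ (cj n (q⁻¹ * q')) := by
      rw [← hχmul, ← hcjmul, mul_inv_cancel_left]
    rw [h2, h1, add_zero]
  let T : N → ((Fin 2 → ZMod p) →ₗ[ZMod p] (Fin 2 → ZMod p)) := fun n =>
    AddMonoidHom.toZModLinearMap p (AddMonoidHom.mk' (fun v => χ (cj n (sec v))) (fun v w => by
      rw [← hχmul, ← hcjmul]
      exact hwd n _ _ (by rw [hsec, hχmul, hsec, hsec])))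
  have hT : ∀ n q, T n (χ q) = χ (cj n q) := fun n q => hwd n _ _ (hsec _)
  have hTmul : ∀ n n', T (n * n') = T n * T n' := by
    intro n n'
    refine LinearMap.ext fun v => ?_
    conv_lhs => rw [← hsec v, hT]
    rw [Module.End.mul_apply]
    conv_rhs => rw [← hsec v, hT, hT]
    congr 1
    exact Subtype.ext (by simp [cj, mul_assoc])
  have hT1 : T 1 = 1 := LinearMap.ext fun v => by
    conv_lhs => rw [← hsec v, hT]
    rw [Module.End.one_apply]
    conv_rhs => rw [← hsec v]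
    congr 1
    exact Subtype.ext (by simp [cj])
  let K := AlgebraicClosure (ZMod p)
  haveI : CharP K p := charP_of_injective_algebraMap (algebraMap (ZMod p) K).injective p
  let f : ZMod p →+* K := algebraMap (ZMod p) K
  let Φ₀ : N →* Module.End K (Fin 2 → K) :=
    { toFun := fun n => Matrix.toLin' ((LinearMap.toMatrix' (T n)).map f)
      map_one' := by
        rw [hT1, LinearMap.toMatrix'_one, Matrix.map_one f (map_zero f) (map_one f), Matrix.toLin'_one]; rfl
      map_mul' := fun n n' => by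
        rw [hTmul, LinearMap.toMatrix'_mul, Matrix.map_mul, Matrix.toLin'_mul]; rfl }
  let Φ : N →* ((Fin 2 → K) ≃ₗ[K] (Fin 2 → K)) :=
    (LinearMap.GeneralLinearGroup.generalLinearEquiv K (Fin 2 → K)).toMonoidHom.comp Φ₀.toHomUnits
  have hΦ : ∀ n (v : Fin 2 → ZMod p), Φ n (f ∘ v) = f ∘ (T n v) := by
    intro n v
    show Matrix.toLin' ((LinearMap.toMatrix' (T n)).map f) (f ∘ v) = f ∘ (T n v)
    rw [Matrix.toLin'_apply]
    funext i
    rw [← RingHom.map_mulVec, Function.comp_apply, LinearMap.toMatrix'_mulVec]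
  let ψ : N →* Equiv.Perm (ℙ K (Fin 2 → K)) :=
    (MulAction.toPermHom ((Fin 2 → K) ≃ₗ[K] (Fin 2 → K)) (ℙ K (Fin 2 → K))).comp Φ
  have hψscal : ∀ n, (∃ c : K, ∀ v, Φ n v = c • v) → ψ n = 1 := by
    rintro n ⟨c, hc⟩
    refine Equiv.ext fun w => ?_
    induction w using Projectivization.ind with | h u hu => ?_
    show Φ n • Projectivization.mk K u hu = Projectivization.mk K u hu
    rw [Projectivization.smul_mk, Projectivization.mk_eq_mk_iff']
    exact ⟨c, (hc u).symm⟩
  -- the order of the image is prime to `p`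
  set P' := (P : Subgroup G).subgroupOf N with hP'
  haveI : P'.Normal := normal_subgroupOf_of_le_normalizer le_rfl
  set m := P'.index with hm
  have hmp : ¬ p ∣ m := by
    intro hd
    refine P.not_dvd_index (hd.trans ?_)
    exact relIndex_dvd_index_of_le Subgroup.le_normalizer
  have hΦm : ∀ n, Φ n ^ m = 1 := by
    intro n
    rw [← map_pow]
    have hq : n ^ m ∈ P' := pow_index_mem P' n
    have hT' : T (n ^ m) = 1 := LinearMap.ext fun v => by
      conv_lhs => rw [← hsec v, hT]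
      rw [Module.End.one_apply]
      set q : (P : Subgroup G) := ⟨((n ^ m : N) : G), hq⟩
      rw [show cj (n ^ m) (sec v) = q * sec v * q⁻¹ from Subtype.ext rfl, hχmul, hχmul, hχinv,
        add_neg_cancel_comm, hsec]
    refine LinearEquiv.ext fun v => ?_
    show Matrix.toLin' ((LinearMap.toMatrix' (T (n ^ m))).map f) v = v
    rw [hT', LinearMap.toMatrix'_one, Matrix.map_one f (map_zero f) (map_one f), Matrix.toLin'_one]
    rfl
  have hmK : (m : K) ≠ 0 := fun h0 => hmp ((CharP.cast_eq_zero_iff K p m).1 h0)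
  -- the finite invariant set of fixed points
  set Γ := ψ.range with hΓ
  haveI : Finite Γ := Finite.of_surjective ψ.rangeRestrict ψ.rangeRestrict_surjective
  have hfix2 : ∀ g : Γ, g ≠ 1 → Nat.card (MulAction.fixedBy (ℙ K (Fin 2 → K)) (g : Equiv.Perm (ℙ K (Fin 2 → K)))) = 2 := by
    rintro ⟨g, n, rfl⟩ hg
    exact Count.card_fixed_eq_two (Module.finrank_fin_fun K) (Φ n) hmK (hΦm n)
      (fun hs => hg (Subtype.ext (hψscal n hs)))
  let Ω : SubMulAction Γ (ℙ K (Fin 2 → K)) :=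
    { carrier := {w | ∃ g : Γ, g ≠ 1 ∧ g • w = w}
      smul_mem' := by
        rintro g w ⟨g', hg', hw⟩
        refine ⟨g * g' * g⁻¹, fun h0 => hg' (conj_eq_one_iff.1 h0), ?_⟩
        rw [mul_smul, mul_smul, inv_smul_smul, hw] }
  haveI : Finite Ω := by
    have hfin : (⋃ g ∈ {g : Γ | g ≠ 1}, MulAction.fixedBy (ℙ K (Fin 2 → K))
        (g : Equiv.Perm (ℙ K (Fin 2 → K)))).Finite :=
      Set.Finite.biUnion (Set.toFinite _) fun g hg => Set.finite_of_ncard_pos (by
        rw [← Nat.card_coe_set_eq, hfix2 g hg]; omega)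
    refine Set.Finite.to_subtype (hfin.subset ?_)
    rintro w ⟨g, hg, hw⟩
    exact Set.mem_iUnion₂.2 ⟨g, hg, hw⟩
  have h2 : ∀ g : Γ, g ≠ 1 → Nat.card (MulAction.fixedBy Ω g) = 2 := by
    intro g hg
    refine Eq.trans ?_ (hfix2 g hg)
    exact Nat.card_congr
      { toFun := fun w => ⟨w.1.1, congrArg Subtype.val w.2⟩
        invFun := fun w => ⟨⟨w.1, g, hg, w.2⟩, Subtype.ext w.2⟩
        left_inv := fun w => rfl
        right_inv := fun w => rfl }
  -- the lines of the `a i`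
  have hne : ∀ i, f ∘ χ (a i) ≠ 0 := by
    intro i h0
    refine ha i ((hχ0 _).1 (funext fun j => f.injective ?_))
    simpa using congrFun h0 j
  have hstab : ∀ i, ∃ g : Γ, g • Projectivization.mk K (f ∘ χ (a i)) (hne i) = Projectivization.mk K (f ∘ χ (a i)) (hne i) ∧
      ∀ j : ℕ, 0 < j → j < k → g ^ j ≠ 1 := by
    intro i
    obtain ⟨t₀, hta, htz⟩ := ht₀ i
    obtain ⟨n, hn, hnz, e, hna⟩ := exists_torus h hexp (ha i) hta htz ht
    set n' : N := ⟨n, hn⟩
    have hTa : T n' (χ (a i)) = t⁻¹ • χ (a i) := by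
      rw [hT]
      have hcj : cj n' (a i) = z ^ e * a i ^ (t⁻¹).val := Subtype.ext (by
        rw [Subgroup.coe_mul, Subgroup.coe_zpow, Subgroup.coe_pow]; exact hna)
      rw [hcj, hχmul, (hχ0 _).2 ((h.mem_center _).2 ⟨e, rfl⟩), zero_add, hχpow, ZMod.natCast_zmod_val]
    refine ⟨⟨ψ n', n', rfl⟩, ?_, ?_⟩
    · show Φ n' • Projectivization.mk K (f ∘ χ (a i)) (hne i) = _
      rw [Projectivization.smul_mk, Projectivization.mk_eq_mk_iff']
      refine ⟨f t⁻¹, ?_⟩
      show f t⁻¹ • (f ∘ χ (a i)) = Φ n' (f ∘ χ (a i))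
      rw [hΦ, hTa]
      funext j
      simp
    · intro j hj hjk hg
      have hψj : ψ (n' ^ j) = 1 := by rw [map_pow]; exact congrArg Subtype.val hg
      -- all lines are fixed, so the linear map is a scalar
      have hline : ∀ v : Fin 2 → ZMod p, v ≠ 0 → ∃ c : K, f ∘ (T (n' ^ j) v) = c • (f ∘ v) := by
        intro v hv
        have hv' : f ∘ v ≠ 0 := fun h0 => hv (funext fun l => f.injective (by simpa using congrFun h0 l))
        have h3 : Φ (n' ^ j) • Projectivization.mk K (f ∘ v) hv' = Projectivization.mk K (f ∘ v) hv' :=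
          (Equiv.ext_iff.1 hψj (Projectivization.mk K (f ∘ v) hv') :)
        rw [Projectivization.smul_mk, Projectivization.mk_eq_mk_iff'] at h3
        obtain ⟨c, hc⟩ := h3
        exact ⟨c, by rw [← hΦ]; exact hc.symm⟩
      have hline' : ∀ v : Fin 2 → ZMod p, T (n' ^ j) v 0 * v 1 = T (n' ^ j) v 1 * v 0 := by
        intro v
        by_cases hv : v = 0
        · simp [hv]
        obtain ⟨c, hc⟩ := hline v hv
        apply f.injective
        have e0 := congrFun hc 0
        have e1 := congrFun hc 1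
        simp only [Function.comp_apply, Pi.smul_apply, smul_eq_mul] at e0 e1
        rw [map_mul, map_mul, e0, e1]
        ring
      set S := T (n' ^ j)
      set μ := S ![1, 0] 0
      have a1 : S ![1, 0] 1 = 0 := by have := hline' ![1, 0]; simpa using this.symm
      have a2 : S ![0, 1] 0 = 0 := by have := hline' ![0, 1]; simpa using this
      have a3 : S ![0, 1] 1 = μ := by
        have h4 := hline' (![1, 0] + ![0, 1])
        rw [map_add] at h4
        simpa [a1, a2, μ] using h4.symm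
      have hμ : ∀ v, S v = μ • v := by
        intro v
        have hv : v = v 0 • ![1, 0] + v 1 • ![0, 1] := by funext l; fin_cases l <;> simp
        conv_lhs => rw [hv, map_add, map_smul, map_smul]
        funext l
        fin_cases l
        · simp [a2, μ, mul_comm]
        · simp [a1, a3, mul_comm]
      -- evaluate on `a i`
      have hpow : ∀ r : ℕ, T (n' ^ r) (χ (a i)) = (t⁻¹) ^ r • χ (a i) := by
        intro r
        induction r with
        | zero => rw [pow_zero, hT1, pow_zero, one_smul]; rfl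
        | succ r ih => rw [pow_succ', hTmul, Module.End.mul_apply, ih, map_smul, hTa, smul_smul, pow_succ]
      have hμt : μ = (t⁻¹) ^ j := by
        have h5 := (hμ (χ (a i))).symm.trans (hpow j)
        have hne0 : χ (a i) ≠ 0 := fun h0 => ha i ((hχ0 _).1 h0)
        exact smul_left_injective (ZMod p) hne0 h5
      -- evaluate on the commutator
      obtain ⟨cx, hcx, hxe⟩ : ∃ c ∈ center (P : Subgroup G), cj (n' ^ j) x = x ^ μ.val * c := by
        refine ⟨_, heq (x ^ μ.val) (cj (n' ^ j) x) ?_, (mul_inv_cancel_left _ _).symm⟩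
        rw [hχpow, ZMod.natCast_zmod_val, ← hT, hμ]
      obtain ⟨cy, hcy, hye⟩ : ∃ c ∈ center (P : Subgroup G), cj (n' ^ j) y = y ^ μ.val * c := by
        refine ⟨_, heq (y ^ μ.val) (cj (n' ^ j) y) ?_, (mul_inv_cancel_left _ _).symm⟩
        rw [hχpow, ZMod.natCast_zmod_val, ← hT, hμ]
      have hc1 : ∀ c ∈ center (P : Subgroup G), ∀ r : ↥(P : Subgroup G), ⁅c, r⁆ = 1 := fun c hc r =>
        commutatorElement_eq_one_iff_mul_comm.2 (mem_center_iff.1 hc r).symm
      have hzj : cj (n' ^ j) z = z ^ (μ.val * μ.val) := by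
        let cjh : ↥(P : Subgroup G) →* (P : Subgroup G) := MonoidHom.mk' (cj (n' ^ j)) (hcjmul _)
        have h6 : cj (n' ^ j) z = ⁅cj (n' ^ j) x, cj (n' ^ j) y⁆ := by
          rw [← hxy]; exact map_commutatorElement cjh x y
        rw [h6, hxe, hye, Lib.Extraspecial.comm_mul_left h, hc1 cx hcx, mul_one,
          ← zpow_natCast x, Lib.Extraspecial.comm_zpow_left h, ← commutatorElement_inv,
          Lib.Extraspecial.comm_mul_left h, hc1 cy hcy, mul_one, commutatorElement_inv, ← zpow_natCast y,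
          Lib.Extraspecial.comm_zpow_right h, hxy, ← zpow_mul, ← Nat.cast_mul, zpow_natCast]
      have hzr : ∀ r : ℕ, ((n' ^ r : N) : G) * z * ((n' ^ r : N) : G)⁻¹ = (z : G) ^ (t ^ r).val := by
        intro r
        have hzG : (z : G) ^ p = 1 := congrArg Subtype.val h.z_pow
        induction r with
        | zero =>
          haveI : Fact (1 < p) := ⟨hp.out.one_lt⟩
          simp [ZMod.val_one]
        | succ r ih =>
          calc ((n' ^ (r + 1) : N) : G) * z * ((n' ^ (r + 1) : N) : G)⁻¹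
              = n * (((n' ^ r : N) : G) * z * ((n' ^ r : N) : G)⁻¹) * n⁻¹ := by
                rw [pow_succ', Subgroup.coe_mul]; simp [n', mul_assoc]
            _ = (z : G) ^ (t ^ (r + 1)).val := by
                rw [ih, ← conj_pow, hnz, pow_succ', pow_val_mul hzG]
      have h8 : (z : G) ^ (t ^ j).val = (z : G) ^ (μ.val * μ.val) :=
        (hzr j).symm.trans (congrArg Subtype.val hzj)
      have h9 : z ^ ((t ^ j).val : ℤ) = z ^ ((μ.val * μ.val : ℕ) : ℤ) := Subtype.ext (by
        rw [zpow_natCast, zpow_natCast, Subgroup.coe_pow, Subgroup.coe_pow]; exact h8)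
      rw [hzk] at h9
      simp only [Int.cast_natCast, Nat.cast_mul, Int.cast_mul, ZMod.natCast_zmod_val] at h9
      refine hkt j hj hjk ?_
      rw [hμt, inv_pow] at h9
      have htj : t ^ j ≠ 0 := pow_ne_zero _ ht
      rw [mul_comm 3, pow_mul]
      calc (t ^ j) ^ 3 = t ^ j * (t ^ j * t ^ j) := by ring
        _ = (t ^ j)⁻¹ * (t ^ j)⁻¹ * (t ^ j * t ^ j) := by rw [← h9]
        _ = 1 := by field_simp
  choose g hgfix hgord using hstab
  let ω : ι → {w : Ω // k ≤ Nat.card (MulAction.stabilizer Γ w)} := fun i =>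
    ⟨⟨Projectivization.mk K (f ∘ χ (a i)) (hne i), g i, (fun h0 => hgord i 1 one_pos (by omega) (by rw [pow_one, h0])), hgfix i⟩, by
      refine le_trans ?_ (card_le_of_le (zpowers_le.2 (show g i ∈ MulAction.stabilizer Γ _ from Subtype.ext (hgfix i))))
      rw [Nat.card_zpowers]
      by_contra hlt
      exact hgord i _ (orderOf_pos _) (not_le.1 hlt) (pow_orderOf_eq_one _)⟩
  have hinj : Function.Injective ω := by
    intro i i' hii
    by_contra hne'
    have hmk := congrArg (fun w => w.1.1) hii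
    obtain ⟨c, hc⟩ := (Projectivization.mk_eq_mk_iff' K _ _ _ _).1 hmk
    have hne0 : χ (a i') ≠ 0 := fun h0 => ha i' ((hχ0 _).1 h0)
    obtain ⟨l, hl⟩ := Function.ne_iff.1 hne0
    set d := χ (a i) l / χ (a i') l
    have hd : c = f d := by
      have := congrFun hc l
      simp only [Pi.smul_apply, Function.comp_apply, smul_eq_mul] at this
      rw [map_div₀, ← this, mul_div_assoc, div_self (fun h0 => hl (f.injective (by simpa using h0))), mul_one]
    have heq' : χ (a i) = d • χ (a i') := funext fun r => f.injective (by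
      have := congrFun hc r
      simp only [Pi.smul_apply, Function.comp_apply, smul_eq_mul] at this
      rw [Pi.smul_apply, smul_eq_mul, map_mul, ← hd, this])
    refine hind i i' hne' ?_
    have hmem := heq (a i' ^ d.val) (a i) (by rw [hχpow, ZMod.natCast_zmod_val, heq'])
    obtain ⟨e, he⟩ := (h.mem_center _).1 hmem
    have hai : a i = a i' ^ d.val * z ^ e := by
      rw [show z ^ e = (a i' ^ d.val)⁻¹ * a i from he, mul_inv_cancel_left]
    rw [hai]
    exact mul_mem (mem_sup_right (pow_mem (mem_zpowers _) _)) (mem_sup_left ⟨e, rfl⟩)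
  obtain ⟨b12, b2⟩ := Count.card_large_stabilizer h2 hk
  have hle := Nat.card_le_card_of_injective ω hinj
  exact ⟨hle.trans b12, fun hk6 => hle.trans (b2 hk6)⟩

end Cfsg.Agent.Lib.LA5.Torus.Extraspecial
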